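import Mathlib

/-!
Geometric properties of fibres do not change under base change.
-/

set_option autoImplicit false

universe u

open CategoryTheory Limits AlgebraicGeometry

namespace Groth.Agent.GeomFibre

/-- Two field extensions sit in a common one. -/
theorem exists_common_field (k K k' : Type u) [Field k] [Field K] [Field k'] (a : k →+* K) (b : k →+* k') :
    ∃ (Ω : Type u) (_ : Field Ω) (p : K →+* Ω) (q : k' →+* Ω), p.comp a = q.comp b := by
  algebraize [a, b]
  have : Nontrivial (TensorProduct k K k') :=
    Algebra.TensorProduct.nontrivial_of_algebraMap_injective_of_flat_left k K k' b.injective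
  obtain ⟨m, hm⟩ := Ideal.exists_maximal (TensorProduct k K k')
  let π := Ideal.Quotient.mk m
  refine ⟨TensorProduct k K k' ⧸ m, Ideal.Quotient.field m,
    π.comp Algebra.TensorProduct.includeLeftRingHom, π.comp
      (Algebra.TensorProduct.includeRight (R := k) (A := K) (B := k')).toRingHom, RingHom.ext fun x => ?_⟩
  simp only [RingHom.comp_apply, Algebra.TensorProduct.includeLeftRingHom_apply, AlgHom.toRingHom_eq_coe,
    RingHom.coe_coe, Algebra.TensorProduct.includeRight_apply]
  congr 1
  exact Algebra.TensorProduct.tmul_one_eq_one_tmul x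

variable {P : ObjectProperty Scheme.{u}}

/-- A geometric property which descends along flat surjective morphisms descends along field extensions. -/
theorem geometrically_descent
    (hdesc : ∀ ⦃Z W : Scheme.{u}⦄ (p : Z ⟶ W) [Flat p] [Surjective p], P Z → P W)
    {k k' : Type u} [Field k] [Field k'] {X X' : Scheme.{u}} {f : X ⟶ Spec (.of k)} {f' : X' ⟶ Spec (.of k')}
    {g' : X' ⟶ X} {g : Spec (.of k') ⟶ Spec (.of k)} (h : IsPullback g' f' f g)
    (hP : geometrically P f') : geometrically P f := by
  intro K _ y Z fst snd hZ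
  obtain ⟨Ω, _, p, q, hpq⟩ := exists_common_field k K k' (Spec.preimage y).hom (Spec.preimage g).hom
  let sp : Spec (.of Ω) ⟶ Spec (.of K) := Spec.map (CommRingCat.ofHom p)
  let sq : Spec (.of Ω) ⟶ Spec (.of k') := Spec.map (CommRingCat.ofHom q)
  have hcomm : sp ≫ y = sq ≫ g := by
    rw [← Spec.map_preimage y, ← Spec.map_preimage g, ← Spec.map_comp, ← Spec.map_comp]
    congr 1
    exact CommRingCat.hom_ext hpq
  have hsurj : Surjective sp := ⟨fun x => ⟨default, Subsingleton.elim _ _⟩⟩
  have hW := IsPullback.of_hasPullback snd sp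
  have hbig : IsPullback (pullback.fst snd sp ≫ fst) (pullback.snd snd sp) f (sq ≫ g) :=
    hcomm ▸ hW.paste_horiz hZ
  have hlift := IsPullback.of_right (h₁₁ := h.lift (pullback.fst snd sp ≫ fst) (pullback.snd snd sp ≫ sq)
    (by rw [hbig.w, Category.assoc])) (by rw [h.lift_fst]; exact hbig) (by rw [h.lift_snd]) h
  exact hdesc (pullback.fst snd sp) (hP sq _ _ hlift)

theorem geometrically_fiber_iff (Q : MorphismProperty Scheme.{u}) (hQ : Q = geometrically P)
    (hdesc : ∀ ⦃Z W : Scheme.{u}⦄ (p : Z ⟶ W) [Flat p] [Surjective p], P Z → P W)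
    {X Y X' Y' : Scheme.{u}} (f : X ⟶ Y) (g : Y' ⟶ Y) (f' : X' ⟶ Y') (g' : X' ⟶ X)
    (hc : IsPullback g' f' f g) (y : Y') :
    Q (f'.fiberToSpecResidueField y) ↔ Q (f.fiberToSpecResidueField (g y)) := by
  subst hQ
  have h := isPullback_fiberToSpecResidueField_of_isPullback hc y
  exact ⟨geometrically_descent hdesc h, fun H => MorphismProperty.of_isPullback h H⟩

/-- Reducedness descends along flat surjective morphisms. -/
theorem isReduced_of_flat_surjective {Z W : Scheme.{u}} (p : Z ⟶ W) [Flat p] [Surjective p] [IsReduced Z] :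
    IsReduced W := by
  have : ∀ w : W, _root_.IsReduced (W.presheaf.stalk w) := fun w => by
    obtain ⟨z, rfl⟩ := p.surjective w
    refine isReduced_of_injective (p.stalkMap z).hom ?_
    have hloc := p.toLRSHom.prop z
    have hflat := Flat.stalkMap p z
    algebraize [(p.stalkMap z).hom]
    have : IsLocalHom (algebraMap (W.presheaf.stalk (p z)) (Z.presheaf.stalk z)) := hloc
    have : Module.FaithfullyFlat (W.presheaf.stalk (p z)) (Z.presheaf.stalk z) :=
      Module.FaithfullyFlat.of_flat_of_isLocalHom
    exact FaithfulSMul.algebraMap_injective (W.presheaf.stalk (p z)) (Z.presheaf.stalk z)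
  exact isReduced_of_isReduced_stalk W

end Groth.Agent.GeomFibre
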